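import Groth.Agent.EtCore.K301.JoinDefs
import Mathlib.AlgebraicGeometry.Limits
import Mathlib.AlgebraicGeometry.Morphisms.UniversallyOpen

/-! # Node B for `S19999`: étale coverings of products from the ring statement -/

set_option autoImplicit false
set_option backward.isDefEq.respectTransparency false
set_option backward.isDefEq.respectTransparency.types false
universe u
open CategoryTheory CategoryTheory.Limits AlgebraicGeometry Opposite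
open scoped TensorProduct

namespace K868.JoinB
open K301.JoinDefs

/-- An affine étale surjective refinement over an affine scheme. -/
lemma exists_cov {C : CommRingCat.{u}} {W : Scheme.{u}} (q : W ⟶ Spec C) [Etale q]
    (hq : Function.Surjective q) :
    ∃ (D : CommRingCat.{u}) (φ : C ⟶ D) (r : Spec D ⟶ W), r ≫ q = Spec.map φ ∧ φ.hom.Etale ∧
      Function.Surjective (Spec.map φ) := by
  let 𝒰 := W.affineCover
  have hopen : ∀ i : 𝒰.I₀, IsOpen (Set.range (𝒰.f i ≫ q)) := fun i => (𝒰.f i ≫ q).isOpenMap.isOpen_range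
  have hcov : (⋃ i : 𝒰.I₀, Set.range (𝒰.f i ≫ q)) = Set.univ := by
    ext x
    simp only [Set.mem_iUnion, Set.mem_univ, iff_true]
    obtain ⟨w, rfl⟩ := hq x
    obtain ⟨i, y, rfl⟩ := 𝒰.exists_eq w
    exact ⟨i, y, by rw [Scheme.Hom.comp_apply]⟩
  obtain ⟨T, hT⟩ := isCompact_univ.elim_finite_subcover _ hopen hcov.ge
  let Z : (ULift.{u} T) → Scheme.{u} := fun i => 𝒰.X i.down
  have hZ : ∀ i, IsAffine (Z i) := fun i => inferInstanceAs (IsAffine (𝒰.X i.down))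
  let a : (∐ Z) ⟶ W := Sigma.desc fun i => 𝒰.f i.down
  have ha : Etale a := IsZariskiLocalAtSource.sigmaDesc (fun i => inferInstance)
  have hY : IsAffine (∐ Z) := inferInstance
  have hsurj : Function.Surjective (a ≫ q) := by
    intro x
    obtain ⟨x', hx', z, hz⟩ : ∃ x' ∈ T, x ∈ Set.range (𝒰.f x' ≫ q) := by
      have := hT (Set.mem_univ x)
      simpa using this
    refine ⟨Sigma.ι Z ⟨⟨x', hx'⟩⟩ z, ?_⟩
    rw [← hz, ← Scheme.Hom.comp_apply, ← Category.assoc, Sigma.ι_desc]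
  let r : Spec Γ(∐ Z, ⊤) ⟶ W := (∐ Z).isoSpec.inv ≫ a
  refine ⟨Γ(∐ Z, ⊤), Spec.preimage (r ≫ q), r, (Spec.map_preimage _).symm, ?_, ?_⟩
  · rw [← HasRingHomProperty.Spec_iff (P := @Etale), Spec.map_preimage]
    infer_instance
  · rw [Spec.map_preimage]
    intro x
    obtain ⟨y, rfl⟩ := hsurj x
    refine ⟨(∐ Z).isoSpec.hom y, ?_⟩
    rw [← Scheme.Hom.comp_apply]
    simp [r]

/-- Affine étale neighbourhoods over an affine open. -/
lemma exists_aff {X : Scheme.{u}} {V : X.Opens} (hV : IsAffineOpen V) (U : X.Etale) (u : U.left)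
    (hu : U.hom u ∈ V) :
    ∃ (E : Type u) (_ : CommRing E) (_ : Algebra Γ(X, V) E) (_ : Algebra.Etale Γ(X, V) E)
      (j : Spec (CommRingCat.of E) ⟶ U.left) (p : PrimeSpectrum E),
      j ≫ U.hom = Spec.map (CommRingCat.ofHom (algebraMap Γ(X, V) E)) ≫ hV.fromSpec ∧ j p = u := by
  obtain ⟨T, hT, huT, hTV⟩ := exists_isAffineOpen_mem_and_subset (U := U.hom ⁻¹ᵁ V) (x := u) hu
  have h1 : RingHom.Etale (U.hom.appLE V T hTV).hom :=
    HasRingHomProperty.appLE (P := @Etale) U.hom inferInstance ⟨V, hV⟩ ⟨T, hT⟩ hTV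
  let _ : Algebra Γ(X, V) Γ(U.left, T) := (U.hom.appLE V T hTV).hom.toAlgebra
  refine ⟨Γ(U.left, T), inferInstance, inferInstance, h1, hT.fromSpec, hT.primeIdealOf ⟨u, huT⟩, ?_, ?_⟩
  · rw [← hV.SpecMap_appLE_fromSpec U.hom hT hTV]
    rfl
  · exact hT.fromSpec_primeIdealOf ⟨u, huT⟩

/-- The object `Spec B` of the small étale site, for `B` étale over `Γ(X, V)`, `V` affine open. -/
noncomputable def sp {X : Scheme.{u}} {V : X.Opens} (hV : IsAffineOpen V) (B : Type u) [CommRing B]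
    [Algebra Γ(X, V) B] [Algebra.Etale Γ(X, V) B] : X.Etale :=
  have : Etale (Spec.map (CommRingCat.ofHom (algebraMap Γ(X, V) B))) := by
    rw [HasRingHomProperty.Spec_iff (P := @Etale)]
    exact (RingHom.etale_algebraMap).mpr inferInstance
  Scheme.Etale.mk (Spec.map (CommRingCat.ofHom (algebraMap Γ(X, V) B)) ≫ hV.fromSpec)

lemma sp_left {X : Scheme.{u}} {V : X.Opens} (hV : IsAffineOpen V) (B : Type u) [CommRing B]
    [Algebra Γ(X, V) B] [Algebra.Etale Γ(X, V) B] : (sp hV B).left = Spec (CommRingCat.of B) := rfl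

lemma sp_hom {X : Scheme.{u}} {V : X.Opens} (hV : IsAffineOpen V) (B : Type u) [CommRing B]
    [Algebra Γ(X, V) B] [Algebra.Etale Γ(X, V) B] :
    (sp hV B).hom = Spec.map (CommRingCat.ofHom (algebraMap Γ(X, V) B)) ≫ hV.fromSpec := rfl

/-- Functoriality of `sp`. -/
noncomputable def spMap {X : Scheme.{u}} {V : X.Opens} (hV : IsAffineOpen V) {B B' : Type u} [CommRing B]
    [Algebra Γ(X, V) B] [Algebra.Etale Γ(X, V) B] [CommRing B']
    [Algebra Γ(X, V) B'] [Algebra.Etale Γ(X, V) B'] (φ : B →ₐ[Γ(X, V)] B') : sp hV B' ⟶ sp hV B :=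
  MorphismProperty.Over.homMk (Spec.map (CommRingCat.ofHom (φ : B →+* B'))) (by
    rw [sp_hom, sp_hom, ← Category.assoc, ← Spec.map_comp, ← CommRingCat.ofHom_comp, φ.comp_algebraMap]) trivial

lemma spMap_left {X : Scheme.{u}} {V : X.Opens} (hV : IsAffineOpen V) {B B' : Type u} [CommRing B]
    [Algebra Γ(X, V) B] [Algebra.Etale Γ(X, V) B] [CommRing B']
    [Algebra Γ(X, V) B'] [Algebra.Etale Γ(X, V) B'] (φ : B →ₐ[Γ(X, V)] B') :
    (spMap hV φ).left = Spec.map (CommRingCat.ofHom (φ : B →+* B')) := rfl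

lemma hom_ext {X : Scheme.{u}} {U V : X.Etale} (f g : U ⟶ V) (h : f.left = g.left) : f = g :=
  (Scheme.Etale.forgetFullyFaithful X).map_injective (Over.OverMorphism.ext h)

theorem al2_of_al2R (X : Scheme.{u})
    (hX : ∀ s : Set X, s.Finite → ∃ V : X.Opens, IsAffineOpen V ∧ s ⊆ (V : Set X))
    (h : ∀ (A : Type u) [CommRing A], AL2R A) : AL2 X := by
  intro U₁ U₂ u₁ u₂ W w hw
  obtain ⟨V, hV, hVs⟩ := hX {U₁.hom u₁, U₂.hom u₂} (Set.toFinite _)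
  obtain ⟨E₁, _, _, _, j₁, p₁, hj₁, hp₁⟩ := exists_aff hV U₁ u₁ (hVs (by simp))
  obtain ⟨E₂, _, _, _, j₂, p₂, hj₂, hp₂⟩ := exists_aff hV U₂ u₂ (hVs (by simp))
  let A : Type u := Γ(X, V)
  have hE : Algebra.Etale A (E₁ ⊗[A] E₂) := Algebra.Etale.comp A E₁ (E₁ ⊗[A] E₂)
  let J₁ : sp hV E₁ ⟶ U₁ := MorphismProperty.Over.homMk j₁ hj₁ trivial
  let J₂ : sp hV E₂ ⟶ U₂ := MorphismProperty.Over.homMk j₂ hj₂ trivial
  let b : sp hV (E₁ ⊗[A] E₂) ⟶ U₁ ⨯ U₂ :=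
    prod.lift (spMap hV (Algebra.TensorProduct.includeLeft : E₁ →ₐ[A] E₁ ⊗[A] E₂) ≫ J₁)
      (spMap hV (Algebra.TensorProduct.includeRight : E₂ →ₐ[A] E₁ ⊗[A] E₂) ≫ J₂)
  let q : pullback w.left b.left ⟶ Spec (CommRingCat.of (E₁ ⊗[A] E₂)) := pullback.snd w.left b.left
  have hq : Function.Surjective q := by
    intro x
    obtain ⟨y, hy⟩ := hw (b.left x)
    obtain ⟨z, hz1, hz2⟩ := Scheme.Pullback.exists_preimage_pullback (f := w.left) (g := b.left) y x hy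
    exact ⟨z, hz2⟩
  obtain ⟨D, φ, r, hr, hφ, hs⟩ := exists_cov q hq
  let _ : Algebra (E₁ ⊗[A] E₂) D := φ.hom.toAlgebra
  have : Algebra.Etale (E₁ ⊗[A] E₂) D := hφ
  obtain ⟨F₁, F₂, _, _, _, _, _, _, φ₁, φ₂, ⟨P₁, hP₁, hP₁'⟩, ⟨P₂, hP₂, hP₂'⟩, ψ, hψ⟩ :=
    h A E₁ E₂ p₁.asIdeal p₂.asIdeal D hs
  let z₁ : (sp hV F₁ ⨯ sp hV F₂ : X.Etale).left ⟶ Spec (CommRingCat.of F₁) :=
    (prod.fst : sp hV F₁ ⨯ sp hV F₂ ⟶ sp hV F₁).left
  let z₂ : (sp hV F₁ ⨯ sp hV F₂ : X.Etale).left ⟶ Spec (CommRingCat.of F₂) :=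
    (prod.snd : sp hV F₁ ⨯ sp hV F₂ ⟶ sp hV F₂).left
  have hz₁ : z₁ ≫ (sp hV F₁).hom = (sp hV F₁ ⨯ sp hV F₂ : X.Etale).hom := Over.w _
  have hz₂ : z₂ ≫ (sp hV F₂).hom = (sp hV F₁ ⨯ sp hV F₂ : X.Etale).hom := Over.w _
  have hz : z₁ ≫ Spec.map (CommRingCat.ofHom (algebraMap A F₁)) =
      z₂ ≫ Spec.map (CommRingCat.ofHom (algebraMap A F₂)) := by
    rw [← cancel_mono hV.fromSpec, Category.assoc, Category.assoc]
    exact hz₁.trans hz₂.symm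
  obtain ⟨m₀, hm₁, hm₂⟩ : ∃ m₀ : (sp hV F₁ ⨯ sp hV F₂ : X.Etale).left ⟶ Spec (CommRingCat.of (F₁ ⊗[A] F₂)),
      m₀ ≫ Spec.map (CommRingCat.ofHom
        (Algebra.TensorProduct.includeLeft : F₁ →ₐ[A] F₁ ⊗[A] F₂).toRingHom) = z₁ ∧
      m₀ ≫ Spec.map (CommRingCat.ofHom
        (Algebra.TensorProduct.includeRight : F₂ →ₐ[A] F₁ ⊗[A] F₂).toRingHom) = z₂ := by
    refine ⟨pullback.lift z₁ z₂ hz ≫ (pullbackSpecIso A F₁ F₂).hom, ?_, ?_⟩
    · rw [Category.assoc]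
      erw [pullbackSpecIso_hom_fst]
      exact pullback.lift_fst _ _ _
    · rw [Category.assoc]
      erw [pullbackSpecIso_hom_snd]
      exact pullback.lift_snd _ _ _
  let Ψ : Spec (CommRingCat.of (F₁ ⊗[A] F₂)) ⟶ Spec D := Spec.map (CommRingCat.ofHom ψ)
  have hΨ : Ψ ≫ Spec.map φ = Spec.map (CommRingCat.ofHom
      (Algebra.TensorProduct.map φ₁ φ₂ : E₁ ⊗[A] E₂ →+* F₁ ⊗[A] F₂)) := by
    rw [← Spec.map_comp]
    congr 1
    ext1
    exact hψ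
  let n : (sp hV F₁ ⨯ sp hV F₂ : X.Etale).left ⟶ W.left := m₀ ≫ Ψ ≫ r ≫ pullback.fst w.left b.left
  have hn : n ≫ w.left = m₀ ≫ Spec.map (CommRingCat.ofHom
      (Algebra.TensorProduct.map φ₁ φ₂ : E₁ ⊗[A] E₂ →+* F₁ ⊗[A] F₂)) ≫ b.left := by
    rw [← hΨ, ← hr]
    simp only [n, Category.assoc, q, pullback.condition]
  have hmap₁ : m₀ ≫ Spec.map (CommRingCat.ofHom
      (Algebra.TensorProduct.map φ₁ φ₂ : E₁ ⊗[A] E₂ →+* F₁ ⊗[A] F₂)) ≫
        Spec.map (CommRingCat.ofHom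
          ((Algebra.TensorProduct.includeLeft : E₁ →ₐ[A] E₁ ⊗[A] E₂) : E₁ →+* E₁ ⊗[A] E₂)) =
      z₁ ≫ Spec.map (CommRingCat.ofHom (φ₁ : E₁ →+* F₁)) := by
    rw [← hm₁, Category.assoc, ← Spec.map_comp, ← Spec.map_comp]
    congr 2
    ext x
    simp
  have hmap₂ : m₀ ≫ Spec.map (CommRingCat.ofHom
      (Algebra.TensorProduct.map φ₁ φ₂ : E₁ ⊗[A] E₂ →+* F₁ ⊗[A] F₂)) ≫
        Spec.map (CommRingCat.ofHom
          ((Algebra.TensorProduct.includeRight : E₂ →ₐ[A] E₁ ⊗[A] E₂) : E₂ →+* E₁ ⊗[A] E₂)) =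
      z₂ ≫ Spec.map (CommRingCat.ofHom (φ₂ : E₂ →+* F₂)) := by
    rw [← hm₂, Category.assoc, ← Spec.map_comp, ← Spec.map_comp]
    congr 2
    ext x
    simp
  have hb₁ : b.left ≫ (prod.fst : U₁ ⨯ U₂ ⟶ U₁).left = Spec.map (CommRingCat.ofHom
      ((Algebra.TensorProduct.includeLeft : E₁ →ₐ[A] E₁ ⊗[A] E₂) : E₁ →+* E₁ ⊗[A] E₂)) ≫ j₁ :=
    congrArg (fun k => k.left) (prod.lift_fst (spMap hV (Algebra.TensorProduct.includeLeft :
      E₁ →ₐ[A] E₁ ⊗[A] E₂) ≫ J₁) (spMap hV (Algebra.TensorProduct.includeRight :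
      E₂ →ₐ[A] E₁ ⊗[A] E₂) ≫ J₂))
  have hb₂ : b.left ≫ (prod.snd : U₁ ⨯ U₂ ⟶ U₂).left = Spec.map (CommRingCat.ofHom
      ((Algebra.TensorProduct.includeRight : E₂ →ₐ[A] E₁ ⊗[A] E₂) : E₂ →+* E₁ ⊗[A] E₂)) ≫ j₂ :=
    congrArg (fun k => k.left) (prod.lift_snd (spMap hV (Algebra.TensorProduct.includeLeft :
      E₁ →ₐ[A] E₁ ⊗[A] E₂) ≫ J₁) (spMap hV (Algebra.TensorProduct.includeRight :
      E₂ →ₐ[A] E₁ ⊗[A] E₂) ≫ J₂))
  have hnX : n ≫ W.hom = (sp hV F₁ ⨯ sp hV F₂ : X.Etale).hom := by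
    have h1 : W.hom = w.left ≫ (prod.fst : U₁ ⨯ U₂ ⟶ U₁).left ≫ U₁.hom := by
      rw [← Category.assoc]
      exact (Over.w (w ≫ (prod.fst : U₁ ⨯ U₂ ⟶ U₁)).hom).symm
    rw [h1, ← Category.assoc, hn, Category.assoc, Category.assoc, ← Category.assoc b.left, hb₁,
      Category.assoc, hj₁, ← hz₁, sp_hom]
    rw [← Category.assoc (Spec.map _) (Spec.map _) (Spec.map _ ≫ hV.fromSpec), ← Category.assoc m₀,
      hmap₁, Category.assoc, ← Category.assoc (Spec.map _) (Spec.map _) hV.fromSpec, ← Spec.map_comp,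
      ← CommRingCat.ofHom_comp, φ₁.comp_algebraMap]
  refine ⟨sp hV F₁, sp hV F₂, spMap hV φ₁ ≫ J₁, spMap hV φ₂ ≫ J₂, ⟨(⟨P₁, hP₁⟩ : PrimeSpectrum F₁), ?_⟩,
    ⟨(⟨P₂, hP₂⟩ : PrimeSpectrum F₂), ?_⟩, MorphismProperty.Over.homMk n hnX trivial, ?_⟩
  · rw [← hp₁]
    change j₁ (Spec.map (CommRingCat.ofHom (φ₁ : E₁ →+* F₁)) _) = j₁ p₁
    congr 1
    exact PrimeSpectrum.ext hP₁'
  · rw [← hp₂]
    change j₂ (Spec.map (CommRingCat.ofHom (φ₂ : E₂ →+* F₂)) _) = j₂ p₂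
    congr 1
    exact PrimeSpectrum.ext hP₂'
  · apply Limits.prod.hom_ext
    · rw [Category.assoc, prod.map_fst]
      apply hom_ext
      change n ≫ w.left ≫ (prod.fst : U₁ ⨯ U₂ ⟶ U₁).left = z₁ ≫ Spec.map _ ≫ j₁
      rw [← Category.assoc, hn, Category.assoc, Category.assoc, hb₁, ← Category.assoc z₁, ← hmap₁]
      simp only [Category.assoc]
    · rw [Category.assoc, prod.map_snd]
      apply hom_ext
      change n ≫ w.left ≫ (prod.snd : U₁ ⨯ U₂ ⟶ U₂).left = z₂ ≫ Spec.map _ ≫ j₂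
      rw [← Category.assoc, hn, Category.assoc, Category.assoc, hb₂, ← Category.assoc z₂, ← hmap₂]
      simp only [Category.assoc]

end K868.JoinB
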