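import Groth.Agent.Etbase.EtAffCover

/-! # Lifting sections along an epimorphism over powers (`S16271` from `S19999`) -/

set_option autoImplicit false
set_option backward.isDefEq.respectTransparency false
set_option backward.isDefEq.respectTransparency.types false
universe u
open CategoryTheory CategoryTheory.Limits AlgebraicGeometry Opposite
open Groth.Agent.Etbase.EtAffCover

namespace K868.PowLift

variable {X : Scheme.{u}}

/-- Lifting of sections along epimorphisms over one étale surjective object. -/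
theorem exists_lift {I Q : EtCoh.Ab X} (q : I ⟶ Q) [Epi q] (U : X.Etale) (s : Q.obj.obj (op U)) :
    ∃ (V : X.Etale) (f : V ⟶ U), Function.Surjective f.left ∧
      ∃ t : I.obj.obj (op V), q.hom.app (op V) t = Q.obj.map f.op s := by
  have hls : Sheaf.IsLocallySurjective q := (Sheaf.isLocallySurjective_iff_epi' _ _).2 inferInstance
  have hR := Presheaf.imageSieve_mem X.smallEtaleTopology q.hom s
  choose Y g y hg hY hy using fun x => exists_affine_of_mem hR x
  choose t ht using fun x => hg x
  let f : sigma Y ⟶ U := sdesc Y g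
  obtain ⟨r, hr⟩ := glue_sigma I Y t
  refine ⟨sigma Y, f, ?_, r, ?_⟩
  · intro x
    refine ⟨(sι Y x).left (y x), ?_⟩
    rw [← Scheme.Hom.comp_apply]
    change (sι Y x ≫ f).left (y x) = _
    rw [sι_sdesc, hy]
  · apply ext_sigma
    intro i
    have h1 : Q.obj.map (sι Y i).op (q.hom.app _ r) = q.hom.app _ (I.obj.map (sι Y i).op r) :=
      (ConcreteCategory.congr_hom (q.hom.naturality (sι Y i).op) r).symm
    rw [h1, hr]
    have h2 := ht i
    change (q.hom.app (op (Y i))) (t i) = Q.obj.map (g i).op s at h2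
    rw [h2]
    change Q.obj.map (g i).op s = (Q.obj.map f.op ≫ Q.obj.map (sι Y i).op) s
    rw [← Functor.map_comp, ← op_comp, sι_sdesc]

/-- Lifting of sections over powers, from the refinement of coverings of powers. -/
theorem exists_lift_pow {F F'' : EtCoh.Ab X} (φ : F ⟶ F'') [Epi φ] (U : X.Etale) (n : ℕ)
    (h : ∀ (W : X.Etale) (w : W ⟶ ∏ᶜ fun _ : Fin n => U), Function.Surjective w.left.base →
      ∃ (U' : X.Etale) (g : U' ⟶ U), Function.Surjective g.left.base ∧
        ∃ h : (∏ᶜ fun _ : Fin n => U') ⟶ W, h ≫ w = Limits.Pi.map (fun _ : Fin n => g))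
    (s'' : EtCoh.sect F'' (∏ᶜ fun _ : Fin n => U)) :
    ∃ (U' : X.Etale) (g : U' ⟶ U), Function.Surjective g.left.base ∧
      ∃ s : EtCoh.sect F (∏ᶜ fun _ : Fin n => U'),
        φ.hom.app _ s = F''.obj.map (Limits.Pi.map (fun _ : Fin n => g)).op s'' := by
  obtain ⟨W, w, hw, t, ht⟩ := exists_lift φ (∏ᶜ fun _ : Fin n => U) s''
  obtain ⟨U', g, hg, k, hk⟩ := h W w hw
  refine ⟨U', g, hg, F.obj.map k.op t, ?_⟩
  rw [← hk, op_comp, Functor.map_comp]
  refine (ConcreteCategory.congr_hom (φ.hom.naturality k.op) t).trans ?_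
  exact congrArg (F''.obj.map k.op) ht

end K868.PowLift
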